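import Mathlib

/-!
# Spreading a finite separable extension of the generic residue field to a finite étale algebra
-/

set_option autoImplicit false
universe u

open Polynomial

namespace Groth.Agent.GenIrr

variable {A : Type u} [CommRing A]

theorem exists_away_lift [hp : (nilradical A).IsPrime] (k : Type u) [Field k] [Algebra A k]
    (hfrac : ∀ y : k, ∃ a s : A, s ∉ nilradical A ∧ y * algebraMap A k s = algebraMap A k a)
    (hker : RingHom.ker (algebraMap A k) = nilradical A) (S : Finset k) :
    ∃ (c : A) (φ : Localization.Away c →+* k), c ∉ nilradical A ∧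
      φ.comp (algebraMap A (Localization.Away c)) = algebraMap A k ∧
      (∀ y ∈ S, y ∈ φ.range) ∧ ∀ x, φ x = 0 → IsNilpotent x := by
  classical
  choose a s hs has using hfrac
  let c : A := ∏ y ∈ S, s y
  have hc : c ∉ nilradical A := fun h => by
    obtain ⟨y, -, hy⟩ := (hp.prod_mem_iff).mp h
    exact hs y hy
  have hne : ∀ {t : A}, t ∉ nilradical A → algebraMap A k t ≠ 0 := fun ht h =>
    ht (hker ▸ RingHom.mem_ker.mpr h)
  let φ : Localization.Away c →+* k :=
    IsLocalization.Away.lift c (g := algebraMap A k) (isUnit_iff_ne_zero.mpr (hne hc))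
  have hφ : φ.comp (algebraMap A (Localization.Away c)) = algebraMap A k :=
    IsLocalization.Away.lift_comp c _
  have hφ' : ∀ r, φ (algebraMap A _ r) = algebraMap A k r := fun r => DFunLike.congr_fun hφ r
  refine ⟨c, φ, hc, hφ, fun y hy => ?_, fun x hx => ?_⟩
  · refine ⟨algebraMap A _ (a y * ∏ z ∈ S.erase y, s z) * IsLocalization.Away.invSelf c, ?_⟩
    have h1 : φ (IsLocalization.Away.invSelf c) * algebraMap A k c = 1 := by
      rw [← hφ', ← map_mul, mul_comm, IsLocalization.Away.mul_invSelf, map_one]
    have h2 : algebraMap A k c = algebraMap A k (s y) * algebraMap A k (∏ z ∈ S.erase y, s z) := by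
      rw [← map_mul, Finset.mul_prod_erase S s hy]
    rw [map_mul, hφ', map_mul]
    calc algebraMap A k (a y) * algebraMap A k (∏ z ∈ S.erase y, s z) *
          φ (IsLocalization.Away.invSelf c)
        = y * (φ (IsLocalization.Away.invSelf c) * algebraMap A k c) := by rw [h2, ← has y]; ring
      _ = y := by rw [h1, mul_one]
  · obtain ⟨r, ⟨t, n, rfl⟩, rfl⟩ := IsLocalization.exists_mk'_eq (Submonoid.powers c) x
    have h : algebraMap A k r = 0 := by
      rw [← hφ', ← IsLocalization.mk'_spec (M := Submonoid.powers c) (Localization.Away c) r ⟨c ^ n, n, rfl⟩, map_mul, hx,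
        zero_mul]
    have hr : IsNilpotent r := by
      have : r ∈ nilradical A := hker ▸ RingHom.mem_ker.mpr h
      exact mem_nilradical.mp this
    rw [IsLocalization.mk'_eq_mul_mk'_one]
    exact (Commute.all _ _).isNilpotent_mul_right (hr.map _)

/-- A finite separable extension of the residue field at the generic point of an irreducible affine
scheme is the generic residue field of a finite etale cover of a nonempty standard open. -/
theorem exists_etale_model [hp : (nilradical A).IsPrime] (k : Type u) [Field k] [Algebra A k]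
    (hfrac : ∀ y : k, ∃ a s : A, s ∉ nilradical A ∧ y * algebraMap A k s = algebraMap A k a)
    (hker : RingHom.ker (algebraMap A k) = nilradical A)
    (L : Type u) [Field L] [Algebra k L] [FiniteDimensional k L] [Algebra.IsSeparable k L] :
    ∃ (c : A) (B : Type u) (_ : CommRing B) (_ : Algebra (Localization.Away c) B) (ψ : B →+* L),
      c ∉ nilradical A ∧ Algebra.Etale (Localization.Away c) B ∧
      Module.Finite (Localization.Away c) B ∧ Module.FaithfullyFlat (Localization.Away c) B ∧
      ψ.comp ((algebraMap (Localization.Away c) B).comp (algebraMap A (Localization.Away c))) =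
        (algebraMap k L).comp (algebraMap A k) ∧
      (∀ x, ψ x = 0 → IsNilpotent x) ∧
      ∀ y : L, ∃ x s : B, ψ s ≠ 0 ∧ y * ψ s = ψ x := by
  classical
  obtain ⟨α, hα⟩ := Field.exists_primitive_element k L
  have hint : IsIntegral k α := Algebra.IsIntegral.isIntegral α
  set m := minpoly k α with hm
  obtain ⟨a, b, hab⟩ := (Polynomial.separable_def' _).mp (Algebra.IsSeparable.isSeparable k α : IsSeparable k α)
  obtain ⟨c, φ, hc, hφ, hS, hnil⟩ :=
    exists_away_lift k hfrac hker (m.coeffs ∪ a.coeffs ∪ b.coeffs ∪ {0})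
  set R := Localization.Away c
  have hlift : ∀ p : k[X], p.coeffs ⊆ m.coeffs ∪ a.coeffs ∪ b.coeffs ∪ {0} → p ∈ lifts φ := by
    intro p hp'
    rw [lifts_iff_coeff_lifts]
    intro n
    by_cases hn : p.coeff n = 0
    · exact ⟨0, by rw [hn, map_zero]⟩
    · exact hS _ (hp' (Polynomial.coeff_mem_coeffs hn))
  obtain ⟨P, hP, -, hPm⟩ := lifts_and_degree_eq_and_monic
    (hlift m (fun x hx => by simp [hx])) (minpoly.monic hint)
  obtain ⟨a', ha⟩ := (mem_lifts a).mp (hlift a (fun x hx => by simp [hx]))
  obtain ⟨b', hb⟩ := (mem_lifts b).mp (hlift b (fun x hx => by simp [hx]))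
  have hu : IsUnit (a' * P + b' * derivative P) := by
    have hz : Polynomial.map φ (a' * P + b' * derivative P - 1) = 0 := by
      rw [Polynomial.map_sub, Polynomial.map_add, Polynomial.map_mul, Polynomial.map_mul,
        ← derivative_map, hP, ha, hb, Polynomial.map_one, hab, sub_self]
    have hn : IsNilpotent (a' * P + b' * derivative P - 1) := by
      rw [Polynomial.isNilpotent_iff]
      exact fun i => hnil _ (by rw [← Polynomial.coeff_map, hz, coeff_zero])
    simpa using hn.isUnit_add_one
  obtain ⟨v, hv⟩ := hu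
  let SP : StandardEtalePair R :=
    ⟨P, hPm, 1, b' * ((v⁻¹ : R[X]ˣ) : R[X]), a' * ((v⁻¹ : R[X]ˣ) : R[X]), 0, by
      rw [pow_zero, ← Units.mul_inv v, hv]; ring⟩
  let B := AdjoinRoot P
  haveI : IsLocalization.Away (1 : B) B := IsLocalization.away_of_isUnit_of_bijective B isUnit_one
    Function.bijective_id
  haveI : Algebra.Etale R B := by
    have e1 : SP.Ring ≃ₐ[R] Localization.Away (AdjoinRoot.mk P (1 : R[X])) := SP.equivAwayAdjoinRoot
    have h1 : IsUnit (AdjoinRoot.mk P (1 : R[X])) := by rw [map_one]; exact isUnit_one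
    let e2 : B ≃ₐ[R] Localization.Away (AdjoinRoot.mk P (1 : R[X])) :=
      ((IsLocalization.atUnits B (Submonoid.powers (AdjoinRoot.mk P (1 : R[X])))
        (by rintro _ ⟨n, rfl⟩; exact h1.pow n)).restrictScalars R)
    exact Algebra.Etale.of_equiv (e1.trans e2.symm)
  haveI : Module.Free R B := hPm.free_adjoinRoot
  haveI : Module.Finite R B := hPm.finite_adjoinRoot
  let ψ : B →+* L := AdjoinRoot.lift ((algebraMap k L).comp φ) α (by
    rw [← Polynomial.eval₂_map, hP, ← Polynomial.aeval_def, hm, minpoly.aeval])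
  haveI : Nontrivial B := RingHom.domain_nontrivial ψ
  have hψR : ∀ r, ψ (algebraMap R B r) = algebraMap k L (φ r) := fun r => by
    simp [ψ, B, AdjoinRoot.algebraMap_eq]
  have hψmk : ∀ q : R[X], ψ (AdjoinRoot.mk P q) = aeval α (Polynomial.map φ q) := fun q => by
    simp [ψ, B, Polynomial.aeval_def, Polynomial.eval₂_map]
  refine ⟨c, B, inferInstance, inferInstance, ψ, hc, inferInstance, inferInstance, inferInstance,
    ?_, fun x hx => ?_, fun y => ?_⟩
  · ext r
    simp only [RingHom.comp_apply]
    rw [hψR, ← hφ, RingHom.comp_apply]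
  · obtain ⟨q, rfl⟩ := AdjoinRoot.mk_surjective x
    haveI : Nontrivial R := RingHom.domain_nontrivial φ
    rw [← modByMonic_add_div q P, map_add, map_mul, AdjoinRoot.mk_self, zero_mul, add_zero] at hx ⊢
    rw [hψmk] at hx
    have h0 : Polynomial.map φ (q %ₘ P) = 0 := by
      by_contra hne
      have h1 := minpoly.degree_le_of_ne_zero k α hne hx
      have h2 : (Polynomial.map φ (q %ₘ P)).degree < m.degree := by
        calc _ ≤ (q %ₘ P).degree := degree_map_le
          _ < P.degree := degree_modByMonic_lt q hPm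
          _ = m.degree := by rw [← hP, hPm.degree_map φ]
      exact absurd h2 (not_lt.mpr h1)
    refine IsNilpotent.map ?_ (AdjoinRoot.mk P)
    rw [Polynomial.isNilpotent_iff]
    exact fun i => hnil _ (by rw [← Polynomial.coeff_map, h0, coeff_zero])
  · have hy : y ∈ Algebra.adjoin k ({α} : Set L) := by
      rw [← IntermediateField.adjoin_simple_toSubalgebra_of_isAlgebraic hint.isAlgebraic, hα]
      trivial
    induction hy using Algebra.adjoin_induction with
    | mem x hx =>
      refine ⟨AdjoinRoot.root P, 1, by simp, ?_⟩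
      rw [Set.mem_singleton_iff] at hx
      simp only [ψ, B, hx, map_one, mul_one, AdjoinRoot.lift_root]
    | algebraMap r =>
      obtain ⟨n, d, hd, e⟩ := hfrac r
      refine ⟨algebraMap R B (algebraMap A R n), algebraMap R B (algebraMap A R d), ?_, ?_⟩
      · rw [hψR, ← RingHom.comp_apply φ, hφ]
        exact fun h => hd (hker ▸ RingHom.mem_ker.mpr ((algebraMap k L).injective (by rw [h, map_zero])))
      · rw [hψR, hψR, ← RingHom.comp_apply φ, ← RingHom.comp_apply φ, hφ, ← map_mul, e]
    | add x z _ _ hx hz =>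
      obtain ⟨x₁, s₁, h₁, e₁⟩ := hx
      obtain ⟨x₂, s₂, h₂, e₂⟩ := hz
      refine ⟨x₁ * s₂ + x₂ * s₁, s₁ * s₂, by simp [h₁, h₂], ?_⟩
      simp only [map_add, map_mul, ← e₁, ← e₂]; ring
    | mul x z _ _ hx hz =>
      obtain ⟨x₁, s₁, h₁, e₁⟩ := hx
      obtain ⟨x₂, s₂, h₂, e₂⟩ := hz
      refine ⟨x₁ * x₂, s₁ * s₂, by simp [h₁, h₂], ?_⟩
      simp only [map_mul, ← e₁, ← e₂]; ring

end Groth.Agent.GenIrr
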