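import Mathlib
import Groth.Agent.GenIrr.Alg
import Groth.Agent.S1654
import Groth.Agent.H23.RedSub

/-!
# Finite étale covers making the components of the generic fibre geometrically irreducible
-/

set_option autoImplicit false
set_option backward.isDefEq.respectTransparency false
set_option backward.isDefEq.respectTransparency.types false
universe u

open AlgebraicGeometry CategoryTheory CategoryTheory.Limits

namespace Groth.Agent.GenIrr

/-- Every irreducible component of `F`, reduced, is geometrically irreducible over `π`. -/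
def CompsGI {F T : Scheme.{u}} (π : F ⟶ T) : Prop :=
  ∀ (Z : Set ↑F) (hZ : Z ∈ irreducibleComponents ↑F),
    GeometricallyIrreducible ((Scheme.IdealSheafData.vanishingIdeal
      (⟨Z, isClosed_of_mem_irreducibleComponents Z hZ⟩ : TopologicalSpace.Closeds _)).subschemeι ≫ π)

theorem range_vanishing {X : Scheme.{u}} (Z : TopologicalSpace.Closeds X) :
    Set.range (Scheme.IdealSheafData.vanishingIdeal Z).subschemeι = (Z : Set X) := by
  rw [Scheme.IdealSheafData.range_subschemeι]
  simp

theorem CompsGI.of_iso {F F' T T' : Scheme.{u}} {π : F ⟶ T} {π' : F' ⟶ T'} (e : F ≅ F') (φ : T ≅ T')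
    (w : e.hom ≫ π' = π ≫ φ.hom) (h : CompsGI π') : CompsGI π := by
  intro Z hZ
  let θ : ↑F ≃ₜ ↑F' := Scheme.homeoOfIso e
  have hZ' : θ '' Z ∈ irreducibleComponents ↑F' := by
    refine ⟨hZ.1.image θ θ.continuous.continuousOn, fun W hW hle => ?_⟩
    have h1 : θ ⁻¹' W ⊆ Z := by
      refine hZ.2 ?_ (Set.image_subset_iff.1 hle)
      have : θ ⁻¹' W = θ.symm '' W := (θ.symm.image_eq_preimage_symm W).symm
      rw [this]
      exact hW.image θ.symm θ.symm.continuous.continuousOn
    intro y hy
    exact ⟨θ.symm y, h1 (by simpa using hy), by simp⟩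
  set i := (Scheme.IdealSheafData.vanishingIdeal
    (⟨Z, isClosed_of_mem_irreducibleComponents Z hZ⟩ : TopologicalSpace.Closeds _)).subschemeι
  set i' := (Scheme.IdealSheafData.vanishingIdeal
    (⟨θ '' Z, isClosed_of_mem_irreducibleComponents _ hZ'⟩ : TopologicalSpace.Closeds _)).subschemeι
  obtain ⟨a, ha⟩ := H23.RedSub.exists_iso_of_range_eq (i ≫ e.hom) i' (by
    rw [Scheme.Hom.comp_base, TopCat.coe_comp, Set.range_comp, range_vanishing, range_vanishing]
    rfl)
  have h' : GeometricallyIrreducible (i' ≫ π') := h _ hZ'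
  have e1 : i ≫ π = a.hom ≫ (i' ≫ π') ≫ φ.inv := by
    rw [Category.assoc, reassoc_of% ha, reassoc_of% w, Iso.hom_inv_id, Category.comp_id]
  haveI : MorphismProperty.RespectsIso (C := Scheme.{u}) @GeometricallyIrreducible :=
    MorphismProperty.IsStableUnderBaseChange.respectsIso
  show GeometricallyIrreducible (i ≫ π)
  rw [e1, MorphismProperty.cancel_left_of_respectsIso @GeometricallyIrreducible,
    MorphismProperty.cancel_right_of_respectsIso @GeometricallyIrreducible]
  exact h'

/-- A preimmersion of the spectrum of a field is, up to an isomorphism, the inclusion of a point. -/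
theorem isIso_descResidueField {L : Type u} [Field L] {X : Scheme.{u}}
    (q : Spec (CommRingCat.of L) ⟶ X) [IsPreimmersion q] :
    IsIso (X.descResidueField (Scheme.stalkClosedPointTo q)) := by
  rw [ConcreteCategory.isIso_iff_bijective]
  refine ⟨RingHom.injective _, fun y => ?_⟩
  have hs : Function.Surjective (Scheme.stalkClosedPointTo q) := by
    intro w
    obtain ⟨z, hz⟩ := Scheme.Hom.stalkMap_surjective q (IsLocalRing.closedPoint L)
      ((stalkClosedPointIso (CommRingCat.of L)).inv w)
    refine ⟨z, ?_⟩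
    show (stalkClosedPointIso (CommRingCat.of L)).hom (q.stalkMap _ z) = w
    rw [hz]
    exact Iso.inv_hom_id_apply _ w
  obtain ⟨z, hz⟩ := hs y
  exact ⟨X.residue _ z, by
    rw [← CommRingCat.comp_apply, Scheme.residue_descResidueField]; exact hz⟩

theorem exists_cover {X Y : Scheme.{u}} (f : X ⟶ Y) [IrreducibleSpace ↑Y] [LocallyOfFiniteType f]
    [QuasiCompact f] :
    ∃ (V : Y.Opens) (Y' : Scheme.{u}) (g : Y' ⟶ (V : Scheme.{u})) (hY' : IrreducibleSpace ↑Y'),
      (V : Set ↑Y).Nonempty ∧ IsAffine Y' ∧ Surjective g ∧ IsFinite g ∧ Etale g ∧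
      CompsGI ((pullback.snd f (g ≫ V.ι)).fiberToSpecResidueField (genericPoint ↑Y')) := by
  classical
  obtain ⟨_, ⟨U, hU, rfl⟩, hy, -⟩ := Y.isBasis_affineOpens.exists_subset_of_mem_open
    (Set.mem_univ (genericPoint ↑Y)) isOpen_univ
  haveI : Nonempty ↥(Scheme.Opens.toScheme U) := ⟨⟨_, hy⟩⟩
  haveI : IrreducibleSpace ↥(Scheme.Opens.toScheme U) := (Scheme.Opens.ι U).isOpenEmbedding.irreducibleSpace
  haveI : IrreducibleSpace ↑(Spec Γ(Y, U)) := by
    haveI : Nonempty ↑(Spec Γ(Y, U)) := ⟨(IsAffineOpen.isoSpec hU).hom ⟨_, hy⟩⟩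
    exact (Scheme.homeoOfIso (IsAffineOpen.isoSpec hU)).symm.isOpenEmbedding.irreducibleSpace
  haveI hp : (nilradical Γ(Y, U)).IsPrime :=
    PrimeSpectrum.irreducibleSpace_iff_isPrime_nilradical.mp
      (inferInstanceAs (IrreducibleSpace ↑(Spec Γ(Y, U))))
  let k := (nilradical Γ(Y, U)).ResidueField
  have hker : RingHom.ker (algebraMap Γ(Y, U) k) = nilradical Γ(Y, U) :=
    Ideal.ker_algebraMap_residueField _
  have hfrac : ∀ y : k, ∃ a s : Γ(Y, U), s ∉ nilradical Γ(Y, U) ∧
      y * algebraMap Γ(Y, U) k s = algebraMap Γ(Y, U) k a := by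
    intro y
    obtain ⟨z, rfl⟩ := IsLocalRing.residue_surjective y
    obtain ⟨a, ⟨s, hs⟩, rfl⟩ := IsLocalization.exists_mk'_eq (nilradical Γ(Y, U)).primeCompl z
    refine ⟨a, s, hs, ?_⟩
    rw [IsScalarTower.algebraMap_apply Γ(Y, U) (Localization.AtPrime (nilradical Γ(Y, U))) k,
      IsScalarTower.algebraMap_apply Γ(Y, U) (Localization.AtPrime (nilradical Γ(Y, U))) k,
      IsLocalRing.ResidueField.algebraMap_eq, ← map_mul, IsLocalization.mk'_spec]
  let t : Spec (CommRingCat.of k) ⟶ Y :=
    Spec.map (CommRingCat.ofHom (algebraMap Γ(Y, U) k)) ≫ hU.fromSpec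
  letI : (pullback f t).Over (Spec (CommRingCat.of k)) := ⟨pullback.snd f t⟩
  haveI : LocallyOfFiniteType (pullback f t ↘ Spec (CommRingCat.of k)) :=
    inferInstanceAs (LocallyOfFiniteType (pullback.snd f t))
  haveI : CompactSpace ↥(pullback f t) := QuasiCompact.compactSpace_of_compactSpace (pullback.snd f t)
  haveI : IsLocallyNoetherian (pullback f t) :=
    LocallyOfFiniteType.isLocallyNoetherian (pullback.snd f t)
  haveI : IsNoetherian (pullback f t) := {}
  obtain ⟨L, _, _, _, _, hL⟩ := S1654.result k (pullback f t)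
    TopologicalSpace.NoetherianSpace.finite_irreducibleComponents
  obtain ⟨c, B, _, _, ψ, hc, hBet, hBfin, hBff, hψ, hnil, hψfrac⟩ :=
    exists_etale_model k hfrac hker L
  let Rc := Localization.Away c
  let j : Spec (CommRingCat.of Rc) ⟶ Y :=
    Spec.map (CommRingCat.ofHom (algebraMap Γ(Y, U) Rc)) ≫ hU.fromSpec
  haveI : IsOpenImmersion (Spec.map (CommRingCat.ofHom (algebraMap Γ(Y, U) Rc))) :=
    IsOpenImmersion.of_isLocalization c
  haveI : IsOpenImmersion j := inferInstance
  let g₀ : Spec (CommRingCat.of B) ⟶ Spec (CommRingCat.of Rc) :=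
    Spec.map (CommRingCat.ofHom (algebraMap Rc B))
  let g : Spec (CommRingCat.of B) ⟶ (j.opensRange : Scheme.{u}) := g₀ ≫ j.isoOpensRange.hom
  have hg : g ≫ j.opensRange.ι = g₀ ≫ j := by simp [g]
  have hker' : RingHom.ker ψ = nilradical B :=
    le_antisymm (fun x hx => mem_nilradical.mpr (hnil x hx))
      (haveI := RingHom.ker_isPrime ψ; nilradical_le_prime (RingHom.ker ψ))
  haveI : (nilradical B).IsPrime := hker' ▸ RingHom.ker_isPrime ψ
  haveI hirr : IrreducibleSpace ↑(Spec (CommRingCat.of B)) :=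
    PrimeSpectrum.irreducibleSpace_iff_isPrime_nilradical.mpr inferInstance
  haveI : Surjective g₀ := ⟨PrimeSpectrum.comap_surjective_of_faithfullyFlat (A := Rc) (B := B)⟩
  haveI : IsFinite g₀ := (IsFinite.SpecMap_iff _).mpr
    (RingHom.finite_algebraMap.mpr inferInstance)
  haveI : Etale g₀ := (HasRingHomProperty.Spec_iff (P := @Etale)).mpr
    (RingHom.etale_algebraMap.mpr inferInstance)
  haveI : Nontrivial B := RingHom.domain_nontrivial ψ
  obtain ⟨x₀⟩ : Nonempty ↑(Spec (CommRingCat.of B)) := inferInstanceAs (Nonempty (PrimeSpectrum B))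
  refine ⟨j.opensRange, Spec (CommRingCat.of B), g, hirr, ⟨j (g₀ x₀), _, rfl⟩, inferInstance,
    inferInstance, inferInstance, inferInstance, ?_⟩
  let q : Spec (CommRingCat.of L) ⟶ Spec (CommRingCat.of B) := Spec.map (CommRingCat.ofHom ψ)
  haveI : IsPreimmersion q := by
    refine IsPreimmersion.mk_SpecMap
      (Topology.IsEmbedding.of_subsingleton _) ?_
    rw [RingHom.surjectiveOnStalks_iff_forall_ideal]
    intro I hI y
    obtain ⟨x, s, hs, e⟩ := hψfrac y
    have hu : IsUnit (ψ s) := isUnit_iff_ne_zero.mpr hs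
    refine ⟨x, s, 1, fun h => hI ((Ideal.eq_top_iff_one I).mpr h), fun h => hI
      (Ideal.eq_top_of_isUnit_mem I h hu), ?_⟩
    simp only [CommRingCat.hom_ofHom, one_mul]
    rw [← e, mul_comm]
  have hq : q (IsLocalRing.closedPoint L) = genericPoint ↑(Spec (CommRingCat.of B)) := by
    refine (genericPoint_spec _).eq ?_ |>.symm
    rw [isGenericPoint_def, Set.eq_univ_iff_forall]
    intro P
    refine (PrimeSpectrum.le_iff_specializes _ P).mp ?_ |>.mem_closure
    show (q (IsLocalRing.closedPoint L)).asIdeal ≤ P.asIdeal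
    have : (q (IsLocalRing.closedPoint L)).asIdeal = nilradical B := by
      rw [← hker']
      show Ideal.comap ψ (IsLocalRing.maximalIdeal L) = _
      rw [IsLocalRing.isField_iff_maximalIdeal_eq.mp (Field.toIsField L)]
      rfl
    rw [this]
    exact nilradical_le_prime _
  haveI := isIso_descResidueField q
  let χ := (Spec (CommRingCat.of B)).descResidueField (Scheme.stalkClosedPointTo q)
  have hχ : Spec.map χ ≫ (Spec (CommRingCat.of B)).fromSpecResidueField _ = q :=
    Scheme.descResidueField_stalkClosedPointTo_fromSpecResidueField _ _ q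
  rw [← hq]
  set π := (pullback.snd f (g ≫ j.opensRange.ι)).fiberToSpecResidueField
    (q (IsLocalRing.closedPoint L)) with hπ
  have hsq : q ≫ g ≫ j.opensRange.ι = Spec.map (CommRingCat.ofHom (algebraMap k L)) ≫ t := by
    rw [hg]
    simp only [q, g₀, j, t, ← Category.assoc, ← Spec.map_comp, ← CommRingCat.ofHom_comp]
    rw [hψ]
  have h1 : IsPullback
      (pullback.fst (pullback.snd f (g ≫ j.opensRange.ι))
        ((Spec (CommRingCat.of B)).fromSpecResidueField (q (IsLocalRing.closedPoint L))) ≫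
          pullback.fst f (g ≫ j.opensRange.ι))
      (π ≫ inv (Spec.map χ)) f (q ≫ g ≫ j.opensRange.ι) := by
    have := ((IsPullback.of_hasPullback (pullback.snd f (g ≫ j.opensRange.ι))
      ((Spec (CommRingCat.of B)).fromSpecResidueField (q (IsLocalRing.closedPoint L)))).paste_horiz
        (IsPullback.of_hasPullback f (g ≫ j.opensRange.ι)))
    refine this.of_iso (Iso.refl _) (Iso.refl _) (asIso (Spec.map χ)).symm (Iso.refl _) ?_ ?_ ?_ ?_
    · simp
    · simp [hπ, Scheme.Hom.fiberToSpecResidueField]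
    · simp
    · rw [Iso.symm_hom, asIso_inv, IsIso.eq_inv_comp, Iso.refl_hom, Category.comp_id,
        ← Category.assoc (Spec.map χ)]
      exact congrArg (fun r => r ≫ (g ≫ j.opensRange.ι)) hχ.symm |>.symm
  have h2 : IsPullback (Curv2.bcFst k (pullback f t) L ≫ pullback.fst f t)
      (Curv2.bcSnd k (pullback f t) L) f (q ≫ g ≫ j.opensRange.ι) := by
    rw [hsq]
    exact (IsPullback.of_hasPullback (pullback.snd f t)
      (Spec.map (CommRingCat.ofHom (algebraMap k L)))).paste_horiz (IsPullback.of_hasPullback f t)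
  refine CompsGI.of_iso (h1.isoIsPullback _ _ h2) (asIso (Spec.map χ)).symm ?_ hL
  exact IsPullback.isoIsPullback_hom_snd _ _ h1 h2

end Groth.Agent.GenIrr
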